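import Mathlib.CategoryTheory.Monoidal.Tor
import Mathlib.CategoryTheory.Abelian.LeftDerived
import Mathlib.Algebra.Category.ModuleCat.Monoidal.Closed
import Mathlib.Algebra.Category.ModuleCat.Projective
import Mathlib.Algebra.Homology.ShortComplex.ModuleCat
import Mathlib.RingTheory.Flat.Basic
import Mathlib.Algebra.Exact.Basic

/-!
# Vanishing of `Tor` for a fibre product of modules
-/

universe u

open CategoryTheory CategoryTheory.Limits MonoidalCategory TensorProduct

namespace Groth.Agent.TorFibre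

variable {R : Type u} [CommRing R] {S : ModuleCat.{u} R}

theorem isZero_Tor_iff_exact (M : Type u) [AddCommGroup M] [Module R M]
    (P : ProjectiveResolution S) (m : ℕ) :
    IsZero (((Tor (ModuleCat.{u} R) (m + 1)).obj (ModuleCat.of R M)).obj S) ↔
      Function.Exact ((P.complex.d (m + 2) (m + 1)).hom.lTensor M)
        ((P.complex.d (m + 1) m).hom.lTensor M) := by
  let F := (tensoringLeft (ModuleCat.{u} R)).obj (ModuleCat.of R M)
  let K := (F.mapHomologicalComplex (ComplexShape.down ℕ)).obj P.complex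
  have e : ((Tor (ModuleCat.{u} R) (m + 1)).obj (ModuleCat.of R M)).obj S ≅ K.homology (m + 1) :=
    P.isoLeftDerivedObj F (m + 1)
  rw [e.isZero_iff, ← HomologicalComplex.exactAt_iff_isZero_homology,
    HomologicalComplex.exactAt_iff' K (m + 2) (m + 1) m (by simp) (by simp),
    ShortComplex.ShortExact.moduleCat_exact_iff_function_exact]
  rfl

section Chase

variable {P M N Q X₃ X₂ X₁ X₀ : Type u} [AddCommGroup P] [Module R P] [AddCommGroup M] [Module R M]
  [AddCommGroup N] [Module R N] [AddCommGroup Q] [Module R Q] [AddCommGroup X₃] [Module R X₃]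
  [AddCommGroup X₂] [Module R X₂] [AddCommGroup X₁] [Module R X₁] [AddCommGroup X₀] [Module R X₀]
  (d₃ : X₃ →ₗ[R] X₂) (d₂ : X₂ →ₗ[R] X₁) (d₁ : X₁ →ₗ[R] X₀)

theorem rTensor_lTensor_comm {A B X Y : Type u} [AddCommGroup A] [Module R A] [AddCommGroup B]
    [Module R B] [AddCommGroup X] [Module R X] [AddCommGroup Y] [Module R Y] (f : A →ₗ[R] B)
    (d : X →ₗ[R] Y) (z : A ⊗[R] X) : f.rTensor Y (d.lTensor A z) = d.lTensor B (f.rTensor X z) :=
  LinearMap.congr_fun
    ((LinearMap.rTensor_comp_lTensor (f := f) (g := d)).trans (LinearMap.lTensor_comp_rTensor (f := f) (g := d)).symm) z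

theorem exact_fibreProduct [Module.Flat R X₂] [Module.Flat R X₁]
    (h32 : d₂.comp d₃ = 0) (h21 : d₁.comp d₂ = 0)
    (ι₁ : P →ₗ[R] M) (ι₂ : P →ₗ[R] N) (f : M →ₗ[R] Q) (g : N →ₗ[R] Q)
    (hι : Function.Injective (ι₁.prod ι₂))
    (hex : Function.Exact (ι₁.prod ι₂) (f.comp (LinearMap.fst R M N) - g.comp (LinearMap.snd R M N)))
    (hf : Function.Surjective f)
    (hM : Function.Exact (d₂.lTensor M) (d₁.lTensor M))
    (hN : Function.Exact (d₂.lTensor N) (d₁.lTensor N))
    (hQ : Function.Exact (d₃.lTensor Q) (d₂.lTensor Q)) :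
    Function.Exact (d₂.lTensor P) (d₁.lTensor P) := by
  intro z
  constructor
  swap
  · rintro ⟨y, rfl⟩
    rw [← LinearMap.lTensor_comp_apply, h21, LinearMap.lTensor_zero, LinearMap.zero_apply]
  intro hz
  obtain ⟨a, ha⟩ := (hM _).mp (show d₁.lTensor M (ι₁.rTensor X₁ z) = 0 by
    rw [← rTensor_lTensor_comm, hz, map_zero])
  obtain ⟨c, hc⟩ := (hN _).mp (show d₁.lTensor N (ι₂.rTensor X₁ z) = 0 by
    rw [← rTensor_lTensor_comm, hz, map_zero])
  have hcomm : f.comp ι₁ = g.comp ι₂ := LinearMap.ext fun p =>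
    sub_eq_zero.mp ((hex _).mpr ⟨p, rfl⟩)
  obtain ⟨b, hb⟩ := (hQ _).mp (show d₂.lTensor Q (f.rTensor X₂ a - g.rTensor X₂ c) = 0 by
    rw [map_sub, ← rTensor_lTensor_comm, ← rTensor_lTensor_comm, ha, hc,
      ← LinearMap.rTensor_comp_apply, ← LinearMap.rTensor_comp_apply, hcomm, sub_self])
  obtain ⟨b', rfl⟩ := LinearMap.rTensor_surjective X₃ hf b
  let a' := a - d₃.lTensor M b'
  have ha' : d₂.lTensor M a' = ι₁.rTensor X₁ z := by
    rw [map_sub, ← LinearMap.lTensor_comp_apply, h32, LinearMap.lTensor_zero, LinearMap.zero_apply,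
      sub_zero, ha]
  have hfg : f.rTensor X₂ a' = g.rTensor X₂ c := by
    rw [map_sub, rTensor_lTensor_comm, hb]; abel
  let t : (M × N) ⊗[R] X₂ :=
    (LinearMap.inl R M N).rTensor X₂ a' + (LinearMap.inr R M N).rTensor X₂ c
  obtain ⟨w, hw⟩ := (Module.Flat.rTensor_exact X₂ hex t).mp (by
    simp only [t, map_add, ← LinearMap.rTensor_comp_apply, LinearMap.sub_comp, LinearMap.comp_assoc,
      LinearMap.fst_comp_inl, LinearMap.snd_comp_inl, LinearMap.fst_comp_inr, LinearMap.snd_comp_inr,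
      LinearMap.comp_id, LinearMap.comp_zero, sub_zero, zero_sub]
    rw [LinearMap.rTensor_neg, LinearMap.neg_apply, hfg, add_neg_cancel])
  refine ⟨w, Module.Flat.rTensor_preserves_injective_linearMap (M := X₁) _ hι ?_⟩
  rw [rTensor_lTensor_comm, hw]
  have key : (ι₁.prod ι₂).rTensor X₁ z = (LinearMap.inl R M N).rTensor X₁ (ι₁.rTensor X₁ z) +
      (LinearMap.inr R M N).rTensor X₁ (ι₂.rTensor X₁ z) := by
    rw [← LinearMap.rTensor_comp_apply, ← LinearMap.rTensor_comp_apply, ← LinearMap.add_apply,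
      ← LinearMap.rTensor_add]
    congr 2
    ext p <;> simp
  rw [key, ← ha', ← hc, rTensor_lTensor_comm, rTensor_lTensor_comm, ← map_add]

end Chase

theorem flat_projective (P : ProjectiveResolution S) (m : ℕ) : Module.Flat R (P.complex.X m) := by
  haveI : Module.Projective R (P.complex.X m) :=
    (IsProjective.iff_projective _).mpr (P.projective m)
  infer_instance

theorem isZero_Tor_fibreProduct (n : ℕ) {P M N Q : Type u} [AddCommGroup P] [Module R P]
    [AddCommGroup M] [Module R M] [AddCommGroup N] [Module R N] [AddCommGroup Q] [Module R Q]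
    [Module.Flat R M]
    (ι₁ : P →ₗ[R] M) (ι₂ : P →ₗ[R] N) (f : M →ₗ[R] Q) (g : N →ₗ[R] Q)
    (hι : Function.Injective (ι₁.prod ι₂))
    (hex : Function.Exact (ι₁.prod ι₂) (f.comp (LinearMap.fst R M N) - g.comp (LinearMap.snd R M N)))
    (hf : Function.Surjective f)
    (hN : ∀ i, 0 < i → i < n → IsZero (((Tor (ModuleCat.{u} R) i).obj (ModuleCat.of R N)).obj S))
    (hQ : ∀ i, 0 < i → i ≤ n → IsZero (((Tor (ModuleCat.{u} R) i).obj (ModuleCat.of R Q)).obj S)) :
    ∀ i, 0 < i → i < n → IsZero (((Tor (ModuleCat.{u} R) i).obj (ModuleCat.of R P)).obj S) := by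
  intro i hi hin
  obtain ⟨m, rfl⟩ : ∃ m, i = m + 1 := ⟨i - 1, by omega⟩
  let Pr := ProjectiveResolution.of S
  haveI := flat_projective Pr (m + 2)
  haveI := flat_projective Pr (m + 1)
  rw [isZero_Tor_iff_exact P Pr m]
  have hd : ∀ j, (Pr.complex.d (j + 1) j).hom.comp (Pr.complex.d (j + 2) (j + 1)).hom = 0 := fun j =>
    congrArg ModuleCat.Hom.hom (Pr.complex.d_comp_d (j + 2) (j + 1) j)
  refine exact_fibreProduct (Pr.complex.d (m + 3) (m + 2)).hom _ _ (hd (m + 1)) (hd m)
    ι₁ ι₂ f g hι hex hf ?_ ?_ ?_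
  · have h := Pr.complex_exactAt_succ m
    rw [HomologicalComplex.exactAt_iff' _ (m + 2) (m + 1) m (by simp) (by simp),
      ShortComplex.ShortExact.moduleCat_exact_iff_function_exact] at h
    exact Module.Flat.lTensor_exact M h
  · exact (isZero_Tor_iff_exact N Pr m).mp (hN _ hi hin)
  · exact (isZero_Tor_iff_exact Q Pr (m + 1)).mp (hQ _ (by omega) (by omega))

end Groth.Agent.TorFibre
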